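import Groth.Agent.LC.CplDepthAdic
import Groth.Agent.LC.Connected
import Groth.Agent.LC.CdBase
import Groth.Agent.LC.TopDim
import Groth.Prelude.Def_Formal2

/-!
# The depth bound on the completion from the bound on the ring
-/

set_option autoImplicit false
set_option linter.style.haveILetI false

universe u

open CategoryTheory IsLocalRing

attribute [local instance] HasDerivedCategory.standard

namespace Groth.Agent.Dual6.Boot

/-- If only maximal ideals of `B` lie over `p` and in `V(I)`, intervals from `p` into `V(I)` have length at most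
the cohomological dimension. -/
theorem krullDim_Icc_le_of_cdLE {B : Type u} [CommRing B] [IsNoetherianRing B] {J : Ideal B} {d : ℕ}
    (hcd : LocCoh.CdLE B J d) (p q : PrimeSpectrum B) (hpq : p ≤ q) (hJq : J ≤ q.asIdeal)
    (hmax : ∀ x : PrimeSpectrum B, p ≤ x → J ≤ x.asIdeal → x.asIdeal.IsMaximal) :
    Order.krullDim (Set.Icc p q) ≤ (d : WithBot ℕ∞) := by
  let L := Localization.AtPrime q.asIdeal
  haveI : IsNoetherianRing L := IsLocalization.isNoetherianRing q.asIdeal.primeCompl L inferInstance
  have hdisj : Disjoint (q.asIdeal.primeCompl : Set B) (p.asIdeal : Set B) :=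
    Set.disjoint_left.2 fun x hx hx' => hx (hpq hx')
  haveI hP : (p.asIdeal.map (algebraMap B L)).IsPrime :=
    IsLocalization.isPrime_of_isPrime_disjoint q.asIdeal.primeCompl L _ p.isPrime hdisj
  let P : PrimeSpectrum L := ⟨p.asIdeal.map (algebraMap B L), hP⟩
  have hPc : PrimeSpectrum.comap (algebraMap B L) P = p :=
    PrimeSpectrum.ext (IsLocalization.under_map_of_isPrime_disjoint q.asIdeal.primeCompl L p.isPrime hdisj)
  rw [← hPc, LC.CplDepthDim.krullDim_Icc q P]
  let E := L ⧸ P.asIdeal
  haveI : IsLocalRing E := .of_surjective' _ Ideal.Quotient.mk_surjective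
  have hrad : (J.map (algebraMap B E)).radical = (maximalIdeal E).radical := by
    rw [(maximalIdeal.isMaximal E).isPrime.radical]
    refine le_antisymm ((Ideal.radical_le_radical_iff.2 ?_).trans_eq (maximalIdeal.isMaximal E).isPrime.radical) ?_
    · refine (le_maximalIdeal ?_).trans Ideal.le_radical
      intro htop
      rw [IsScalarTower.algebraMap_eq B L E, ← Ideal.map_map, Ideal.Quotient.algebraMap_eq] at htop
      have h1 : J.map (algebraMap B L) ≤ maximalIdeal L := by
        rw [← Localization.AtPrime.map_eq_maximalIdeal]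
        exact Ideal.map_mono hJq
      have h2 : (maximalIdeal L).map (Ideal.Quotient.mk P.asIdeal) = ⊤ :=
        top_le_iff.1 (htop.ge.trans (Ideal.map_mono h1))
      rw [IsLocalRing.map_maximalIdeal_of_surjective _ Ideal.Quotient.mk_surjective] at h2
      exact (maximalIdeal.isMaximal E).ne_top h2
    · rw [Ideal.radical_eq_sInf]
      refine le_sInf ?_
      rintro Q ⟨hJQ, hQ⟩
      haveI := hQ
      let Q' : Ideal L := Q.comap (Ideal.Quotient.mk P.asIdeal)
      let x : PrimeSpectrum B := ⟨Q'.comap (algebraMap B L), inferInstance⟩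
      have hPQ : P.asIdeal ≤ Q' := fun z hz => by
        rw [Ideal.mem_comap, Ideal.Quotient.eq_zero_iff_mem.2 hz]; exact zero_mem _
      have hpx : p ≤ x := hPc ▸ Ideal.comap_mono hPQ
      have hJx : J ≤ x.asIdeal := by
        rw [← Ideal.map_le_iff_le_comap, ← Ideal.map_le_iff_le_comap, Ideal.map_map]
        exact hJQ
      have hxq : x.asIdeal ≤ q.asIdeal := fun z hz => by
        by_contra hzq
        exact (inferInstance : Q'.IsPrime).ne_top
          (Ideal.eq_top_of_isUnit_mem _ hz (IsLocalization.map_units L (⟨z, hzq⟩ : q.asIdeal.primeCompl)))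
      have heq : x.asIdeal = q.asIdeal := (hmax x hpx hJx).eq_of_le q.isPrime.ne_top hxq
      have hQ' : maximalIdeal L ≤ Q' := by
        rw [← Localization.AtPrime.map_eq_maximalIdeal, Ideal.map_le_iff_le_comap]
        exact heq.ge
      rw [← IsLocalRing.map_maximalIdeal_of_surjective (Ideal.Quotient.mk P.asIdeal) Ideal.Quotient.mk_surjective]
      exact Ideal.map_le_iff_le_comap.2 hQ'
  have hcdE := LC.cdLE_of_radical_eq hrad (LC.cdLE_map J E hcd)
  have hdim : ringKrullDim E = ((FormCat.qd L P.asIdeal : ℕ∞) : WithBot ℕ∞) :=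
    FormCat.coe_qd L P.asIdeal P.2.ne_top
  by_contra hlt
  have hlt' : d < FormCat.qd L P.asIdeal := by
    have := not_le.1 hlt
    exact_mod_cast this
  have hnt := (LC.nontrivial_and_not_finite_H (R := E) (FormCat.qd L P.asIdeal) E
    (by rw [Module.supportDim_self_eq_ringKrullDim, hdim]; rfl)).1
  exact @not_subsingleton _ hnt (hcdE E _ hlt')

/-- The dimension of an interval ending at the maximal ideal of a localization. -/
theorem krullDim_Icc_closedPoint {R : Type u} [CommRing R] [IsLocalRing R] (p : PrimeSpectrum R) :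
    Order.krullDim (Set.Icc p (closedPoint R)) = ringKrullDim (R ⧸ p.asIdeal) := by
  rw [ringKrullDim_quotient]
  exact Order.krullDim_eq_of_orderIso
    { toFun := fun x => ⟨x.1, fun z hz => x.2.1 hz⟩
      invFun := fun y => ⟨y.1, show p.asIdeal ≤ y.1.asIdeal from y.2, le_maximalIdeal y.1.2.ne_top⟩
      left_inv := fun _ => rfl
      right_inv := fun _ => rfl
      map_rel_iff' := Iff.rfl }

set_option maxHeartbeats 1000000 in
/-- The hypothesis on the ring gives the depth bound on the completion. -/
theorem lt_depth_completion {A : Type u} [CommRing A] [IsNoetherianRing A]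
    (hdc : ∃ ω : Dual.D A, Dual.IsDualizing A ω) (I : Ideal A) (d : ℕ) (hcd : LocCoh.CdLE A I d) (M : Type u)
    [AddCommGroup M] [Module A M] [Module.Finite A M] (s : ℕ) (q : PrimeSpectrum A)
    (hc : ∀ p : PrimeSpectrum A, p ≤ q → ¬ I ≤ p.asIdeal →
      (s : ℕ∞) < LocCoh.depth (Localization.AtPrime p.asIdeal) (LocalizedModule p.asIdeal.primeCompl M) ∨
      (((d + s : ℕ) : ℕ∞) : WithBot ℕ∞) < ((LocCoh.depth (Localization.AtPrime p.asIdeal) (LocalizedModule p.asIdeal.primeCompl M) : ℕ∞) : WithBot ℕ∞) + Formal2.dimBetween A p.asIdeal q.asIdeal)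
    (p' : PrimeSpectrum (AdicCompletion (I.map (algebraMap A (Localization.AtPrime q.asIdeal))) (Localization.AtPrime q.asIdeal)))
    (hp' : ¬ (I.map (algebraMap A (AdicCompletion (I.map (algebraMap A (Localization.AtPrime q.asIdeal))) (Localization.AtPrime q.asIdeal)))) ≤ p'.asIdeal)
    (hmax : ∀ q' : PrimeSpectrum (AdicCompletion (I.map (algebraMap A (Localization.AtPrime q.asIdeal))) (Localization.AtPrime q.asIdeal)),
      p' ≤ q' → (I.map (algebraMap A (AdicCompletion (I.map (algebraMap A (Localization.AtPrime q.asIdeal))) (Localization.AtPrime q.asIdeal)))) ≤ q'.asIdeal → q'.asIdeal.IsMaximal) :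
    (s : ℕ∞) < LocCoh.depth (Localization.AtPrime p'.asIdeal) (LocalizedModule p'.asIdeal.primeCompl
      (AdicCompletion (I.map (algebraMap A (Localization.AtPrime q.asIdeal))) (LocalizedModule q.asIdeal.primeCompl M))) := by
  let R := Localization.AtPrime q.asIdeal
  let J : Ideal R := I.map (algebraMap A R)
  let B := AdicCompletion J R
  haveI : IsNoetherianRing R := IsLocalization.isNoetherianRing q.asIdeal.primeCompl R inferInstance
  haveI : IsNoetherianRing B := FormalFib6.isNoetherianRing_adicCompletion R J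
  let N := LocalizedModule q.asIdeal.primeCompl M
  haveI : Module.Finite R N := Module.Finite.of_isLocalizedModule q.asIdeal.primeCompl (LocalizedModule.mkLinearMap _ M)
  have hIB : I.map (algebraMap A B) = J.map (algebraMap R B) := by
    rw [Ideal.map_map, ← IsScalarTower.algebraMap_eq]
  rw [hIB] at hp'
  have hR : ∃ ω : Dual.D R, Dual.IsDualizing R ω := by
    obtain ⟨ω, hω⟩ := hdc
    haveI := Groth.Agent.H9Misc.DRingLBase.hasLBaseChange (algebraMap A (Localization q.asIdeal.primeCompl))
    exact ⟨_, S1775.result A q.asIdeal.primeCompl ω hω⟩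
  -- a maximal ideal above `p'` in `V(J)`
  haveI : IsAdicComplete (J.map (algebraMap R B)) B := AdicCompletion.isAdicComplete_self J (IsNoetherian.noetherian J)
  obtain ⟨m, hm, hpm⟩ := Ideal.exists_le_maximal _ p'.isPrime.ne_top
  have hJm : J.map (algebraMap R B) ≤ m :=
    (IsAdicComplete.le_jacobson_bot (J.map (algebraMap R B))).trans (sInf_le ⟨bot_le, hm⟩)
  let q' : PrimeSpectrum B := ⟨m, hm.isPrime⟩
  have hcm : PrimeSpectrum.comap (algebraMap R B) q' = closedPoint R := by
    have hsur : Function.Surjective ((Ideal.Quotient.mk m).comp (algebraMap R B)) := by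
      intro z
      obtain ⟨b, rfl⟩ := Ideal.Quotient.mk_surjective z
      obtain ⟨a, ha⟩ := LC.CplDepthDim.exists_sub_mem_pow J b 1
      rw [pow_one] at ha
      exact ⟨a, (Ideal.Quotient.eq.2 (hJm ha)).symm⟩
    refine PrimeSpectrum.ext (IsLocalRing.eq_maximalIdeal ?_)
    have hk : m.comap (algebraMap R B) = RingHom.ker ((Ideal.Quotient.mk m).comp (algebraMap R B)) := by
      rw [← RingHom.comap_ker, Ideal.mk_ker]
    show (m.comap (algebraMap R B)).IsMaximal
    rw [hk]
    letI := Ideal.Quotient.field m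
    exact RingHom.ker_isMaximal_of_surjective _ hsur
  obtain ⟨hle, heq⟩ := LC.CplDepthDim.depth_dim_adicCompletion hR J N p' q' hpm hJm
    (PrimeSpectrum.comap (algebraMap R B) p') (closedPoint R) rfl hcm
  have hD : Order.krullDim (Set.Icc p' q') ≤ (d : WithBot ℕ∞) :=
    krullDim_Icc_le_of_cdLE (LC.cdLE_map J B (LC.cdLE_map I R hcd)) p' q' hpm hJm
      fun x hx hJx => hmax x hx (hIB.le.trans hJx)
  rw [krullDim_Icc_closedPoint] at heq
  let pR : Ideal R := p'.asIdeal.comap (algebraMap R B)
  let p : PrimeSpectrum A := ⟨pR.comap (algebraMap A R), inferInstance⟩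
  have hloc : LocCoh.depth (Localization.AtPrime pR) (LocalizedModule pR.primeCompl N) =
      LocCoh.depth (Localization.AtPrime p.asIdeal) (LocalizedModule p.asIdeal.primeCompl M) := by
    rw [Alg6.depth_locLoc]
  have hpq : p ≤ q := fun z hz => by
    by_contra hzq
    exact (inferInstance : pR.IsPrime).ne_top
      (Ideal.eq_top_of_isUnit_mem _ hz (IsLocalization.map_units R (⟨z, hzq⟩ : q.asIdeal.primeCompl)))
  have hpI : ¬ I ≤ p.asIdeal := fun h => hp' (by
    rw [Ideal.map_le_iff_le_comap]
    exact Ideal.map_le_iff_le_comap.2 h)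
  have hmapc : p.asIdeal.map (algebraMap A R) = pR := IsLocalization.map_under q.asIdeal.primeCompl R pR
  change LocCoh.depth (Localization.AtPrime pR) (LocalizedModule pR.primeCompl N) ≤ _ at hle
  rw [hloc] at hle
  change _ = ((LocCoh.depth (Localization.AtPrime pR) (LocalizedModule pR.primeCompl N) : ℕ∞) : WithBot ℕ∞) +
    ringKrullDim (R ⧸ pR) at heq
  rw [hloc] at heq
  rcases hc p hpq hpI with h | h
  · exact lt_of_lt_of_le h hle
  · change _ < _ + ringKrullDim (R ⧸ p.asIdeal.map (algebraMap A R)) at h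
    rw [hmapc, ← heq] at h
    by_contra hns
    have h1 : ((LocCoh.depth (Localization.AtPrime p'.asIdeal) (LocalizedModule p'.asIdeal.primeCompl
        (AdicCompletion J N)) : ℕ∞) : WithBot ℕ∞) + Order.krullDim (Set.Icc p' q') ≤ ((s : ℕ∞) : WithBot ℕ∞) + (d : WithBot ℕ∞) :=
      add_le_add (WithBot.coe_le_coe.2 (not_lt.1 hns)) hD
    refine absurd (lt_of_lt_of_le h h1) (not_lt.2 ?_)
    exact_mod_cast (by omega : s + d ≤ d + s)

end Groth.Agent.Dual6.Boot
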